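import Groth.Agent.PerfGen.Open
import Groth.Agent.PerfGen.Compact
import Groth.Agent.DerPush.Triangle
import Groth.Agent.LCZQC.Main
import Groth.Agent.RPushQC.Resolution
import Groth.Prelude.Def_CxOX

/-!
# The triangle `RΓ_Z ⟶ 𝟭 ⟶ Rj_* j^*` on `D(O_X)`
-/

set_option autoImplicit false
set_option backward.isDefEq.respectTransparency false
set_option backward.isDefEq.respectTransparency.types false
set_option linter.style.haveILetI false
set_option linter.unusedSectionVars false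

universe u

open CategoryTheory Limits Pretriangulated AlgebraicGeometry

attribute [local instance] HasDerivedCategory.standard

namespace Groth.Agent.DCohGammaZ

open Groth.Agent.DQCoh (RD)
open Groth.Agent.PerfGen (adjR etaC SuppD)
open Groth.Agent.ProjForm (pC)

variable {U X : Scheme.{u}} (j : U ⟶ X) [IsOpenImmersion j]

/-- `Γ_Z` on complexes -/
noncomputable abbrev gC : CochainComplex X.Modules ℤ ⥤ CochainComplex X.Modules ℤ :=
  (DCoh.gammaZ j).mapHomologicalComplex (ComplexShape.up ℤ)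

/-- `Γ_Z(I) ⟶ I` -/
noncomputable def ιC (I : CochainComplex X.Modules ℤ) : (gC j).obj I ⟶ I :=
  (NatTrans.mapHomologicalComplex (CxOX.gammaZι j) (ComplexShape.up ℤ)).app I ≫
    (Functor.mapHomologicalComplexIdIso X.Modules (ComplexShape.up ℤ)).hom.app I

@[simp]
lemma ιC_f (I : CochainComplex X.Modules ℤ) (n : ℤ) :
    (ιC j I).f n = kernel.ι ((Scheme.Modules.restrictAdjunction j).unit.app (I.X n)) := by
  simp [ιC, CxOX.gammaZι]
  exact Category.comp_id _

/-- `0 ⟶ Γ_Z I ⟶ I ⟶ j_* j^* I ⟶ 0` -/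
noncomputable def seqZ (I : CochainComplex X.Modules ℤ) : ShortComplex (CochainComplex X.Modules ℤ) :=
  ShortComplex.mk (ιC j I) (etaC j I) (by
    ext n : 1
    simp [etaC])

lemma seqZ_shortExact (I : CochainComplex X.Modules ℤ) (hI : ∀ n, Injective (I.X n)) :
    (seqZ j I).ShortExact := by
  refine HomologicalComplex.shortExact_of_degreewise_shortExact _ fun n => ?_
  haveI := hI n
  haveI : Epi ((Scheme.Modules.restrictAdjunction j).unit.app (I.X n)) :=
    LCZQC.unit_epi j _ (RPushQC.isFlasque_of_injective _)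
  let S : ShortComplex X.Modules := ShortComplex.mk (kernel.ι _) ((Scheme.Modules.restrictAdjunction j).unit.app (I.X n))
    (kernel.condition _)
  have hS : S.ShortExact := { exact := ShortComplex.exact_kernel _, mono_f := inferInstance, epi_g := ‹_› }
  refine ShortComplex.shortExact_of_iso (ShortComplex.isoMk (Iso.refl _) (Iso.refl _) (Iso.refl _) ?_ ?_) hS
  · simp [seqZ]
  · simp [seqZ, etaC]

lemma isZero_restrict_gC (I : CochainComplex X.Modules ℤ) :
    IsZero (((Scheme.Modules.restrictFunctor j).mapHomologicalComplex (ComplexShape.up ℤ)).obj ((gC j).obj I)) := by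
  refine (IsZero.iff_id_eq_zero _).2 (HomologicalComplex.hom_ext _ _ fun n => ?_)
  let R := Scheme.Modules.restrictFunctor j
  let adj := Scheme.Modules.restrictAdjunction j
  let η := adj.unit.app (I.X n)
  haveI : Mono (R.map η) := mono_of_mono_fac (adj.left_triangle_components (I.X n))
  have h : R.map (kernel.ι η) = 0 := by
    rw [← cancel_mono (R.map η), ← R.map_comp, kernel.condition, R.map_zero, zero_comp]
  haveI : Mono (R.map (kernel.ι η)) := inferInstance
  exact ((IsZero.of_mono_eq_zero _ h).eq_of_src _ _)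

lemma isZero_RD_gC (I : CochainComplex X.Modules ℤ) :
    IsZero ((RD j).obj (DerivedCategory.Q.obj ((gC j).obj I))) :=
  (DerivedCategory.Q.map_isZero (isZero_restrict_gC j I)).of_iso
    ((Scheme.Modules.restrictFunctor j).mapDerivedCategoryFactors.app _)

lemma gammaZKhι_app (I : CochainComplex X.Modules ℤ) :
    (CxOX.gammaZKhι j).app ((HomotopyCategory.quotient _ _).obj I) =
      DerivedCategory.Qh.map ((HomotopyCategory.quotient _ _).map (ιC j I)) := by
  refine (Quotient.natTransLift_app (homotopic X.Modules (ComplexShape.up ℤ)) _ _ _ I).trans ?_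
  have h0 : ((DCoh.gammaZ j).mapHomotopyCategoryFactors (ComplexShape.up ℤ)).hom.app I = 𝟙 _ := rfl
  simp [ιC, h0]
  exact Category.id_comp _

/-- transport of the triangle `Q A ⟶ Q B ⟶ Q C` to `Qh` -/
lemma exists_tri_Qh {A B C : CochainComplex X.Modules ℤ} (f : A ⟶ B) (g : B ⟶ C) (w : f ≫ g = 0)
    (h : (ShortComplex.mk f g w).ShortExact) {G : DCoh.D X} (e : DerivedCategory.Q.obj C ≅ G) :
    ∃ (c : DerivedCategory.Qh.obj ((HomotopyCategory.quotient _ _).obj B) ⟶ G) (d : G ⟶ _),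
      Triangle.mk (DerivedCategory.Qh.map ((HomotopyCategory.quotient _ _).map f)) c d ∈ distTriang (DCoh.D X) := by
  let q := DerivedCategory.quotientCompQhIso X.Modules
  refine ⟨q.hom.app B ≫ DerivedCategory.Q.map g ≫ e.hom,
    e.inv ≫ DerivedCategory.triangleOfSESδ h ≫ (q.inv.app A)⟦(1 : ℤ)⟧',
    isomorphic_distinguished _ (DerivedCategory.triangleOfSES_distinguished h) _
      (Triangle.isoMk _ _ (q.app A) (q.app B) e.symm ?_ ?_ ?_)⟩
  · exact DerivedCategory.quotientCompQhIso_hom_naturality f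
  · exact (congrArg (fun t => q.hom.app B ≫ t) (by simp : DerivedCategory.Q.map g =
      (DerivedCategory.Q.map g ≫ e.hom) ≫ e.inv)).trans (Category.assoc _ _ _).symm |>.symm
  · change (e.inv ≫ DerivedCategory.triangleOfSESδ h ≫ (q.inv.app A)⟦(1 : ℤ)⟧') ≫ (q.hom.app A)⟦(1 : ℤ)⟧' =
      e.inv ≫ DerivedCategory.triangleOfSESδ h
    have h0 : (q.inv.app A)⟦(1 : ℤ)⟧' ≫ (q.hom.app A)⟦(1 : ℤ)⟧' = 𝟙 _ := by
      rw [← Functor.map_comp, Iso.inv_hom_id_app, CategoryTheory.Functor.map_id]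
    erw [Category.assoc, Category.assoc, h0, Category.comp_id]

variable [CxOX.HasRgammaZ j]

/-- the unit `Γ_Z ⟶ RΓ_Z` -/
noncomputable abbrev gUnit : CxOX.gammaZKh j ⟶ DerivedCategory.Qh ⋙ CxOX.RgammaZ j :=
  (CxOX.gammaZKh j).totalRightDerivedUnit DerivedCategory.Qh
    (HomotopyCategory.quasiIso X.Modules (ComplexShape.up ℤ))

lemma isIso_gUnit_app {I : HomotopyCategory X.Modules (ComplexShape.up ℤ)} (hI : KInj.kinjProp X.Modules I) :
    IsIso ((gUnit j).app I) :=
  (KInj.isDeforming_Qh DerPush.exists_kInj_sch (CxOX.gammaZKh j)).isIso_app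
    (HomotopyCategory.quasiIso X.Modules (ComplexShape.up ℤ)) (CxOX.RgammaZ j) (gUnit j) hI

lemma gUnit_fac (I : HomotopyCategory X.Modules (ComplexShape.up ℤ)) :
    (gUnit j).app I ≫ (CxOX.RgammaZToId j).app (DerivedCategory.Qh.obj I) = (CxOX.gammaZKhι j).app I := by
  refine (Functor.rightDerived_fac_app (CxOX.RgammaZ j) (gUnit j)
    (HomotopyCategory.quasiIso X.Modules (ComplexShape.up ℤ)) (𝟭 (DCoh.D X))
    (CxOX.gammaZKhι j ≫ (Functor.rightUnitor _).inv) I).trans ?_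
  simp

theorem exists_rep (E : DCoh.D X) : ∃ I : CochainComplex X.Modules ℤ, I.IsKInjective ∧ (∀ n, Injective (I.X n)) ∧
    Nonempty (DerivedCategory.Qh.obj ((HomotopyCategory.quotient _ _).obj I) ≅ E) := by
  haveI := DerPush.isGrothendieckAbelian_modules X
  obtain ⟨I, f, hI, hf, -, hinj⟩ :=
    KInj.exists_kInjective ((DerivedCategory.Q (C := X.Modules)).objPreimage E)
  haveI := hf
  exact ⟨I, hI, hinj, ⟨(DerivedCategory.quotientCompQhIso X.Modules).app I ≪≫
    (asIso (DerivedCategory.Q.map f)).symm ≪≫ DerivedCategory.Q.objObjPreimageIso E⟩⟩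

/-- everything at a representative -/
theorem exists_tri_rep (E : DCoh.D X) : ∃ (I : CochainComplex X.Modules ℤ)
    (e : DerivedCategory.Qh.obj ((HomotopyCategory.quotient _ _).obj I) ≅ E)
    (a : DerivedCategory.Qh.obj ((HomotopyCategory.quotient _ _).obj ((gC j).obj I)) ≅ (CxOX.RgammaZ j).obj E)
    (G : DCoh.D U) (c : E ⟶ (DCoh.Rpush j).obj G)
    (d : (DCoh.Rpush j).obj G ⟶ ((CxOX.RgammaZ j).obj E)⟦(1 : ℤ)⟧),
    Triangle.mk ((CxOX.RgammaZToId j).app E) c d ∈ distTriang (DCoh.D X) := by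
  obtain ⟨I, hI, hinj, ⟨e⟩⟩ := exists_rep E
  haveI := hI
  haveI hu := isIso_gUnit_app j (I := (HomotopyCategory.quotient _ _).obj I) hI
  let a₀ : DerivedCategory.Qh.obj ((HomotopyCategory.quotient _ _).obj ((gC j).obj I)) ≅
      (CxOX.RgammaZ j).obj (DerivedCategory.Qh.obj ((HomotopyCategory.quotient _ _).obj I)) :=
    @asIso _ _ _ _ ((gUnit j).app ((HomotopyCategory.quotient _ _).obj I)) hu
  let a := a₀ ≪≫ (CxOX.RgammaZ j).mapIso e
  haveI : CochainComplex.IsKInjective (((Scheme.Modules.restrictFunctor j).mapHomologicalComplex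
      (ComplexShape.up ℤ)).obj I) := DQPush.isKInjective_restrict_open j I hI
  obtain ⟨c, d, hT⟩ := exists_tri_Qh (ιC j I) (etaC j I) (seqZ j I).zero (seqZ_shortExact j I hinj)
    (ProjForm.rpushIso j _)
  have ha : a.hom ≫ (CxOX.RgammaZToId j).app E =
      DerivedCategory.Qh.map ((HomotopyCategory.quotient _ _).map (ιC j I)) ≫ e.hom := by
    simp only [a, Iso.trans_hom, Functor.mapIso_hom, Category.assoc]
    rw [(CxOX.RgammaZToId j).naturality e.hom, ← Category.assoc]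
    exact congrArg (· ≫ e.hom) ((gUnit_fac j _).trans (gammaZKhι_app j I))
  exact ⟨I, e, a, _, e.inv ≫ c, d ≫ a.hom⟦(1 : ℤ)⟧', isomorphic_distinguished _ hT _
    (Triangle.isoMk _ _ a.symm e.symm (Iso.refl _)
      (show (CxOX.RgammaZToId j).app E ≫ e.inv = a.inv ≫
          DerivedCategory.Qh.map ((HomotopyCategory.quotient _ _).map (ιC j I)) by
        rw [Iso.eq_inv_comp, ← Category.assoc, ha]; simp)
      (Category.comp_id _) (by
        change (d ≫ a.hom⟦(1 : ℤ)⟧') ≫ a.inv⟦(1 : ℤ)⟧' = 𝟙 _ ≫ d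
        simp [← Functor.map_comp]))⟩

theorem exists_triangle (E : DCoh.D X) : ∃ (G : DCoh.D U) (c : E ⟶ (DCoh.Rpush j).obj G)
    (d : (DCoh.Rpush j).obj G ⟶ ((CxOX.RgammaZ j).obj E)⟦(1 : ℤ)⟧),
    Triangle.mk ((CxOX.RgammaZToId j).app E) c d ∈ distTriang (DCoh.D X) := by
  obtain ⟨_, _, _, G, c, d, h⟩ := exists_tri_rep j E
  exact ⟨G, c, d, h⟩

theorem isZero_RD_RgammaZ (E : DCoh.D X) : IsZero ((RD j).obj ((CxOX.RgammaZ j).obj E)) := by
  obtain ⟨I, _, a, -⟩ := exists_tri_rep j E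
  exact (isZero_RD_gC j I).of_iso ((RD j).mapIso
    (a.symm ≪≫ (DerivedCategory.quotientCompQhIso X.Modules).app _))

omit [CxOX.HasRgammaZ j] in
/-- no morphism from a supported object to a direct image -/
theorem hom_eq_zero {A : DCoh.D X} (hA : IsZero ((RD j).obj A)) {G : DCoh.D U} (f : A ⟶ (DCoh.Rpush j).obj G) :
    f = 0 := by
  refine (((adjR j).homEquiv A G).apply_symm_apply f).symm.trans ?_
  rw [hA.eq_of_src (((adjR j).homEquiv A G).symm f) 0, Adjunction.homEquiv_unit, Functor.map_zero, comp_zero]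

omit [CxOX.HasRgammaZ j] in
/-- supported objects are closed under shifts -/
theorem isZero_RD_shift {A : DCoh.D X} (hA : IsZero ((RD j).obj A)) (n : ℤ) : IsZero ((RD j).obj (A⟦n⟧)) :=
  ((shiftFunctor (DCoh.D U) n).map_isZero hA).of_iso (((RD j).commShiftIso n).app A)

omit [CxOX.HasRgammaZ j] in
/-- mapping into the first vertex -/
theorem eq_zero_of_comp {A A' E G' : DCoh.D X} (hA : IsZero ((RD j).obj A))
    {a : A' ⟶ E} {b : E ⟶ G'} {d : G' ⟶ A'⟦(1 : ℤ)⟧} (hT : Triangle.mk a b d ∈ distTriang (DCoh.D X))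
    (hG : ∀ (B : DCoh.D X), IsZero ((RD j).obj B) → ∀ f : B ⟶ G', f = 0) (x : A ⟶ A') (hx : x ≫ a = 0) :
    x = 0 := by
  obtain ⟨g, hg⟩ := Triangle.coyoneda_exact₁ _ hT (x⟦(1 : ℤ)⟧') (by
    change x⟦(1 : ℤ)⟧' ≫ a⟦(1 : ℤ)⟧' = 0
    rw [← Functor.map_comp, hx, Functor.map_zero])
  refine (shiftFunctor (DCoh.D X) (1 : ℤ)).map_injective ?_
  rw [hg, hG _ (isZero_RD_shift j hA 1) g, Functor.map_zero, zero_comp]

/-- the universal property of `RΓ_Z(E) ⟶ E` -/
theorem exists_lift {A : DCoh.D X} (hA : IsZero ((RD j).obj A)) {E : DCoh.D X} (f : A ⟶ E) :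
    ∃ α : A ⟶ (CxOX.RgammaZ j).obj E, α ≫ (CxOX.RgammaZToId j).app E = f := by
  obtain ⟨G, c, d, hT⟩ := exists_triangle j E
  obtain ⟨α, hα⟩ := Triangle.coyoneda_exact₂ _ hT f (hom_eq_zero j hA _)
  exact ⟨α, hα.symm⟩

theorem lift_unique {A : DCoh.D X} (hA : IsZero ((RD j).obj A)) {E : DCoh.D X}
    (α β : A ⟶ (CxOX.RgammaZ j).obj E) (h : α ≫ (CxOX.RgammaZToId j).app E = β ≫ (CxOX.RgammaZToId j).app E) :
    α = β := by
  obtain ⟨G, c, d, hT⟩ := exists_triangle j E
  rw [← sub_eq_zero]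
  exact eq_zero_of_comp j hA hT (fun B hB f => hom_eq_zero j hB f) _ (by rw [Preadditive.sub_comp, h, sub_self])

/-- recognition of `RΓ_Z(E)` -/
theorem isIso_of_triangle {A E G' : DCoh.D X} (hA : IsZero ((RD j).obj A))
    {a : A ⟶ E} {b : E ⟶ G'} {d : G' ⟶ A⟦(1 : ℤ)⟧} (hT : Triangle.mk a b d ∈ distTriang (DCoh.D X))
    (hG : ∀ (B : DCoh.D X), IsZero ((RD j).obj B) → ∀ f : B ⟶ G', f = 0)
    (α : A ⟶ (CxOX.RgammaZ j).obj E) (hα : α ≫ (CxOX.RgammaZToId j).app E = a) : IsIso α := by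
  obtain ⟨β, hβ⟩ := Triangle.coyoneda_exact₂ _ hT ((CxOX.RgammaZToId j).app E)
    (hG _ (isZero_RD_RgammaZ j E) _)
  refine ⟨β, ?_, lift_unique j (isZero_RD_RgammaZ j E) _ _ ?_⟩
  · rw [← sub_eq_zero]
    refine eq_zero_of_comp j hA hT hG _ ?_
    have hβ' : β ≫ a = (CxOX.RgammaZToId j).app E := hβ.symm
    rw [Preadditive.sub_comp, Category.assoc, Category.id_comp, hβ', hα, sub_self]
  · rw [Category.assoc, hα, Category.id_comp]
    exact hβ.symm

end Groth.Agent.DCohGammaZ
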