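import Groth.Agent.DCohGammaZ.Basic
import Groth.Agent.PerfGen.Affine
import Groth.Agent.DQPush.Affine
import Groth.Agent.CechX.Props
import Groth.Agent.CechX.EC
import Groth.Agent.CechX.Homology

/-!
# The extended Čech complex represents `RΓ_Z` on an affine scheme
-/

set_option autoImplicit false
set_option backward.isDefEq.respectTransparency false
set_option backward.isDefEq.respectTransparency.types false
set_option linter.style.haveILetI false
set_option linter.unusedSectionVars false

universe u

open CategoryTheory Limits Pretriangulated AlgebraicGeometry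

attribute [local instance] HasDerivedCategory.standard

namespace Groth.Agent.DCohGammaZ

open Groth.Agent.DQCoh (RD)
open Groth.Agent.PerfGen (SuppD)

/-- recognition of `RΓ_Z E` by its universal property -/
theorem nonempty_iso_of_bijective {U X : Scheme.{u}} (j : U ⟶ X) [IsOpenImmersion j] [CxOX.HasRgammaZ j]
    {A E : DCoh.D X} (hA : IsZero ((RD j).obj A)) (a : A ⟶ E)
    (ha : ∀ B : DCoh.D X, IsZero ((RD j).obj B) → Function.Bijective (fun x : B ⟶ A => x ≫ a)) :
    Nonempty (A ≅ (CxOX.RgammaZ j).obj E) := by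
  obtain ⟨α, hα⟩ := exists_lift j hA a
  obtain ⟨β, hβ⟩ := (ha _ (isZero_RD_RgammaZ j E)).2 ((CxOX.RgammaZToId j).app E)
  have hβ' : β ≫ a = (CxOX.RgammaZToId j).app E := hβ
  refine ⟨⟨α, β, (ha A hA).1 ?_, lift_unique j (isZero_RD_RgammaZ j E) _ _ ?_⟩⟩
  · simp only [Category.assoc, Category.id_comp, hβ', hα]
  · rw [Category.assoc, hα, Category.id_comp, hβ']

/-- composition with the first map of a triangle -/
theorem bijective_comp_mor₁ {C : Type*} [Category C] [Preadditive C] [HasZeroObject C] [HasShift C ℤ]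
    [∀ n : ℤ, (shiftFunctor C n).Additive] [Pretriangulated C] {T : Triangle C} (hT : T ∈ distTriang C) (B : C)
    (h : ∀ (n : ℤ) (x : B ⟶ T.obj₃⟦n⟧), x = 0) : Function.Bijective (fun x : B ⟶ T.obj₁ => x ≫ T.mor₁) := by
  constructor
  · intro x y hxy
    rw [← sub_eq_zero]
    obtain ⟨g, hg⟩ := Triangle.coyoneda_exact₂ _ (inv_rot_of_distTriang _ hT) (x - y)
      (show (x - y) ≫ T.mor₁ = 0 by rw [Preadditive.sub_comp, sub_eq_zero]; exact hxy)
    rw [hg, h (-1) g, zero_comp]
  · intro y
    obtain ⟨x, hx⟩ := Triangle.coyoneda_exact₂ _ hT y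
      ((cancel_mono ((shiftFunctorZero C ℤ).inv.app T.obj₃)).1 ((h 0 _).trans zero_comp.symm))
    exact ⟨x, hx.symm⟩

variable {A : Type u} [CommRing A]

/-- `M ↦ M_S` as modules over the localised ring -/
noncomputable def locFE (S : Submonoid A) : ModuleCat.{u} A ⥤ ModuleCat.{u} (Localization S) where
  obj M := ModuleCat.of (Localization S) (LocalizedModule S M)
  map {M N} g := ModuleCat.ofHom (IsLocalizedModule.mapExtendScalars S (LocalizedModule.mkLinearMap S M)
    (LocalizedModule.mkLinearMap S N) (Localization S) g.hom)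
  map_id M := by
    ext x
    induction x using LocalizedModule.induction_on with
    | h a s => simp
  map_comp {M N P} g g' := by
    ext x
    change (IsLocalizedModule.map S (LocalizedModule.mkLinearMap S M) (LocalizedModule.mkLinearMap S P))
        (g'.hom ∘ₗ g.hom) x = _
    rw [IsLocalizedModule.map_comp' S (LocalizedModule.mkLinearMap S M) (LocalizedModule.mkLinearMap S N)
      (LocalizedModule.mkLinearMap S P)]
    rfl

instance additive_locFE (S : Submonoid A) : (locFE S).Additive where
  map_add {M N g g'} := by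
    ext x
    change (IsLocalizedModule.map S (LocalizedModule.mkLinearMap S M) (LocalizedModule.mkLinearMap S N))
        (g.hom + g'.hom) x = _
    rw [map_add]
    rfl

/-- restricting scalars gives back `DerCA.locFunctor` -/
noncomputable def locFEIso (S : Submonoid A) :
    locFE S ⋙ ModuleCat.restrictScalars.{u} (algebraMap A (Localization S)) ≅ DerCA.locFunctor S :=
  NatIso.ofComponents
    (fun M => LinearEquiv.toModuleIso
      ({ toFun := fun x => x
         map_add' := fun _ _ => rfl
         map_smul' := fun r x => algebraMap_smul (M := LocalizedModule S M) (Localization S) r x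
         invFun := fun x => x
         left_inv := fun _ => rfl
         right_inv := fun _ => rfl } :
        ((locFE S ⋙ ModuleCat.restrictScalars.{u} (algebraMap A (Localization S))).obj M) ≃ₗ[A]
          ((DerCA.locFunctor S).obj M)))
    (fun g => by ext x; rfl)

section Sheaf

variable [PreservesFiniteLimits (tilde.functor (CommRingCat.of A))]

/-- a localised complex is a direct image from the basic open -/
theorem nonempty_loc_iso (f : A) (L : CochainComplex (ModuleCat.{u} A) ℤ) :
    ∃ G : DCoh.D (Spec (CommRingCat.of (Localization.Away f))),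
      Nonempty ((DCoh.tildeD (CommRingCat.of A)).obj (DerivedCategory.Q.obj ((DerCA.locCx (Submonoid.powers f)).obj L)) ≅
        (DCoh.Rpush (Spec.map (CommRingCat.ofHom (algebraMap A (Localization.Away f))))).obj G) := by
  haveI : PreservesFiniteLimits (tilde.functor (CommRingCat.of (Localization.Away f))) := QC.tilde_preservesFiniteLimits
  let P : CochainComplex (ModuleCat.{u} (Localization.Away f)) ℤ :=
    ((locFE (Submonoid.powers f)).mapHomologicalComplex (ComplexShape.up ℤ)).obj L
  refine ⟨(DCoh.tildeD (CommRingCat.of (Localization.Away f))).obj (DerivedCategory.Q.obj P), ⟨?_⟩⟩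
  let Rr := ModuleCat.restrictScalars.{u} (algebraMap A (Localization (Submonoid.powers f)))
  let e₁ : (Rr.mapHomologicalComplex (ComplexShape.up ℤ)).obj P ≅ (DerCA.locCx (Submonoid.powers f)).obj L :=
    (Functor.mapHomologicalComplexCompIso (locFEIso (Submonoid.powers f)) (ComplexShape.up ℤ)).app L
  let e₂ : DerivedCategory.Q.obj ((DerCA.locCx (Submonoid.powers f)).obj L) ≅
      (DRing.restrictD (algebraMap A (Localization.Away f))).obj (DerivedCategory.Q.obj P) :=
    (DerivedCategory.Q.mapIso e₁).symm ≪≫ (Rr.mapDerivedCategoryFactors.app P).symm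
  exact (DCoh.tildeD (CommRingCat.of A)).mapIso e₂ ≪≫
    ((DQPush.rpushTildeIso (algebraMap A (Localization.Away f))).app (DerivedCategory.Q.obj P)).symm

/-- no morphisms from supported objects into a localised complex -/
theorem hom_loc_eq_zero {fs : List A} {f : A} (hf : f ∈ fs) {B : DCoh.D (Spec (CommRingCat.of A))}
    (hB : IsZero ((RD (LocCoh.puncturedOpen A (Ideal.span {a | a ∈ fs})).ι).obj B))
    (L : CochainComplex (ModuleCat.{u} A) ℤ) (n : ℤ)
    (x : B ⟶ ((DCoh.tildeD (CommRingCat.of A)).obj
      (DerivedCategory.Q.obj ((DerCA.locCx (Submonoid.powers f)).obj L)))⟦n⟧) : x = 0 := by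
  obtain ⟨G, ⟨e⟩⟩ := nonempty_loc_iso f L
  let j := Spec.map (CommRingCat.ofHom (algebraMap A (Localization.Away f)))
  have hj : IsZero ((RD j).obj B) := by
    rw [PerfGen.isZero_RD_iff] at hB ⊢
    refine PerfGen.suppD_mono (Set.compl_subset_compl.2 ?_) hB
    rintro _ ⟨y, rfl⟩
    rw [Scheme.Opens.range_ι]
    show j.base y ∈ (PrimeSpectrum.zeroLocus (↑(Ideal.span {a | a ∈ fs}) : Set A))ᶜ
    intro hy
    have h1 : j.base y ∈ Set.range (PrimeSpectrum.comap (algebraMap A (Localization.Away f))) := ⟨y, rfl⟩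
    rw [PrimeSpectrum.localization_away_comap_range _ f] at h1
    exact h1 (hy (Ideal.subset_span hf))
  have h : x⟦-n⟧' ≫ (shiftFunctorCompIsoId (DCoh.D (Spec (CommRingCat.of A))) n (-n) (add_neg_cancel n)).hom.app _ ≫
      e.hom = 0 := hom_eq_zero j (isZero_RD_shift j hj (-n)) _
  refine (shiftFunctor (DCoh.D (Spec (CommRingCat.of A))) (-n)).map_injective ?_
  refine (cancel_mono ((shiftFunctorCompIsoId (DCoh.D (Spec (CommRingCat.of A))) n (-n) (add_neg_cancel n)).hom.app _)).1 ?_
  refine (cancel_mono e.hom).1 ?_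
  rw [Category.assoc, h, Functor.map_zero, zero_comp, zero_comp]

/-- the projection `EC fs K ⟶ K` -/
noncomputable def ecFst (K : CochainComplex (ModuleCat.{u} A) ℤ) : (fs : List A) → (CechX.EC fs K ⟶ K)
  | [] => 𝟙 _
  | f :: fs => CochainComplex.mappingCocone.fst (DerCA.locCxUnit (Submonoid.powers f) (CechX.EC fs K)) ≫ ecFst K fs

theorem bijective_ecFst (K : CochainComplex (ModuleCat.{u} A) ℤ) (gs : List A)
    {B : DCoh.D (Spec (CommRingCat.of A))}
    (hB : IsZero ((RD (LocCoh.puncturedOpen A (Ideal.span {a | a ∈ gs})).ι).obj B)) :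
    ∀ fs : List A, (∀ f ∈ fs, f ∈ gs) → Function.Bijective
      (fun x : B ⟶ (DCoh.tildeD (CommRingCat.of A)).obj (DerivedCategory.Q.obj (CechX.EC fs K)) =>
        x ≫ (DCoh.tildeD (CommRingCat.of A)).map (DerivedCategory.Q.map (ecFst K fs)))
  | [], _ => by
    show Function.Bijective fun x => x ≫ (DCoh.tildeD (CommRingCat.of A)).map (DerivedCategory.Q.map (𝟙 K))
    simp only [CategoryTheory.Functor.map_id, Category.comp_id]
    exact Function.bijective_id
  | f :: fs, h => by
    have h1 := bijective_comp_mor₁ ((DCoh.tildeD (CommRingCat.of A)).map_distinguished _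
      (DerivedCategory.mappingCocone_triangle_distinguished
        (DerCA.locCxUnit (Submonoid.powers f) (CechX.EC fs K)))) B
      (fun n x => hom_loc_eq_zero (h f List.mem_cons_self) hB _ n x)
    have h2 := (bijective_ecFst K gs hB fs fun g hg => h g (List.mem_cons_of_mem f hg)).comp h1
    refine (iff_of_eq (congrArg Function.Bijective ?_)).1 h2
    funext x
    simp only [Function.comp_apply, ecFst, Functor.map_comp, Category.assoc]
    rfl

theorem isTors_EC (K : CochainComplex (ModuleCat.{u} A) ℤ) (fs : List A) {f : A} (hf : f ∈ fs) :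
    PerfGen.IsTors f (DerivedCategory.Q.obj (CechX.EC fs K)) := by
  intro i x
  let e := ((DerivedCategory.homologyFunctorFactors (ModuleCat.{u} A) i).app (CechX.EC fs K)).toLinearEquiv
  obtain ⟨z, hz⟩ := CechX.hcls_surjective (K := CechX.EC fs K) i (e x)
  obtain ⟨n, y, hy⟩ := CechX.tors_EC fs f hf K (i - 1) i (sub_add_cancel i 1) z.1 z.2
  have h0 : CechX.hcls (CechX.EC fs K) i (f ^ n • z) = 0 :=
    (CechX.hcls_eq_zero_iff (K := CechX.EC fs K) i (i - 1) (sub_add_cancel i 1) _).2 ⟨y, hy⟩
  refine ⟨n, e.injective ?_⟩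
  refine ((e.map_smul (f ^ n) x).trans ?_).trans e.map_zero.symm
  exact (congrArg (fun t => f ^ n • t) hz.symm).trans
    (((CechX.hcls (CechX.EC fs K) i).map_smul (f ^ n) z).symm.trans h0)

theorem isZero_RD_EC (K : CochainComplex (ModuleCat.{u} A) ℤ) (fs : List A) :
    IsZero ((RD (LocCoh.puncturedOpen A (Ideal.span {a | a ∈ fs})).ι).obj
      ((DCoh.tildeD (CommRingCat.of A)).obj (DerivedCategory.Q.obj (CechX.EC fs K)))) := by
  rw [PerfGen.isZero_RD_iff, Scheme.Opens.range_ι]
  intro i x hx hx'
  apply hx'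
  show x ∈ PrimeSpectrum.zeroLocus (↑(Ideal.span {a | a ∈ fs}) : Set A)
  rw [PrimeSpectrum.zeroLocus_span]
  intro f hf
  exact (PerfGen.suppD_tildeD_iff _ f).2 (isTors_EC K fs hf) i hx (Set.mem_singleton f)

theorem nonempty_extCech_iso (fs : List A) (M : ModuleCat.{u} A)
    [CxOX.HasRgammaZ (LocCoh.puncturedOpen A (Ideal.span {a | a ∈ fs})).ι] :
    Nonempty ((DCoh.tildeD (CommRingCat.of A)).obj (DRing.toD (DerCA.extCech M fs)) ≅
      (CxOX.RgammaZ (LocCoh.puncturedOpen A (Ideal.span {a | a ∈ fs})).ι).obj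
        ((DCoh.tildeD (CommRingCat.of A)).obj (Dual.inD A M))) := by
  let K := (HomologicalComplex.single (ModuleCat.{u} A) (ComplexShape.up ℤ) 0).obj M
  have he : DerCA.extCech M fs = CechX.EC fs K := CechX.extCech_eq M fs
  obtain ⟨e⟩ := nonempty_iso_of_bijective _ (isZero_RD_EC K fs)
    ((DCoh.tildeD (CommRingCat.of A)).map (DerivedCategory.Q.map (ecFst K fs)))
    (fun B hB => bijective_ecFst K fs hB fs fun _ h => h)
  exact ⟨(DCoh.tildeD (CommRingCat.of A)).mapIso (DerivedCategory.Q.mapIso (eqToIso he)) ≪≫ e ≪≫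
    (CxOX.RgammaZ _).mapIso ((DCoh.tildeD (CommRingCat.of A)).mapIso
      ((DerivedCategory.singleFunctorIsoCompQ (ModuleCat.{u} A) 0).app M).symm)⟩

end Sheaf

end Groth.Agent.DCohGammaZ
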