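import Mathlib
import Groth.Agent.CohQC.ToSheafExact
import Groth.Agent.RPushQC.Resolution
import Groth.Agent.LCZ.Derived
import Groth.Prelude.Def_DCoh2

/-!
A left exact functor on a complex of adapted objects that is exact in low degrees; global sections of
flasque complexes of modules.
-/

set_option autoImplicit false
set_option backward.isDefEq.respectTransparency false
set_option backward.isDefEq.respectTransparency.types false
set_option linter.style.haveILetI false
set_option linter.unusedSectionVars false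

universe v v' u u'

open CategoryTheory CategoryTheory.Limits

namespace Groth.Agent.DCohGammaZ

section Generic

variable {A : Type u} [Category.{v} A] [Abelian A] {B : Type u'} [Category.{v'} B] [Abelian B]
  (G : A ⥤ B) [G.Additive] [PreservesFiniteLimits G]

/-- a class of objects adapted to `G` -/
structure Adapted (P : A → Prop) : Prop where
  zero : ∀ X : A, IsZero X → P X
  epi : ∀ S : ShortComplex A, S.ShortExact → P S.X₁ → Epi (G.map S.g)
  quot : ∀ S : ShortComplex A, S.ShortExact → P S.X₁ → P S.X₂ → P S.X₃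

variable (K : CochainComplex A ℤ)

lemma cyclesFork_exact (n m : ℤ) (h : n + 1 = m) :
    (ShortComplex.mk (K.iCycles n) (K.d n m) (K.iCycles_d n m)).Exact :=
  ShortComplex.exact_of_f_is_kernel _ (K.cyclesIsKernel n m (by simp [← h]))

/-- `Z^n ⟶ K^n ⟶ Z^m` -/
noncomputable def cyclesSC (n m : ℤ) : ShortComplex A :=
  ShortComplex.mk (K.iCycles n) (K.toCycles n m) (by
    rw [← cancel_mono (K.iCycles m), Category.assoc, K.toCycles_i, K.iCycles_d, zero_comp])

lemma cyclesSC_exact (n m : ℤ) (h : n + 1 = m) : (cyclesSC K n m).Exact := by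
  let φ : cyclesSC K n m ⟶ ShortComplex.mk (K.iCycles n) (K.d n m) (K.iCycles_d n m) :=
    { τ₁ := 𝟙 _, τ₂ := 𝟙 _, τ₃ := K.iCycles m
      comm₁₂ := (Category.id_comp _).trans (Category.comp_id _).symm
      comm₂₃ := (Category.id_comp _).trans (K.toCycles_i n m).symm }
  haveI : Epi φ.τ₁ := inferInstanceAs (Epi (𝟙 _))
  haveI : IsIso φ.τ₂ := inferInstanceAs (IsIso (𝟙 _))
  haveI : Mono φ.τ₃ := inferInstanceAs (Mono (K.iCycles m))
  exact (ShortComplex.exact_iff_of_epi_of_isIso_of_mono φ).2 (cyclesFork_exact K n m h)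

lemma cyclesSC_shortExact (n m : ℤ) (h : n + 1 = m) [Epi (K.toCycles n m)] : (cyclesSC K n m).ShortExact :=
  { exact := cyclesSC_exact K n m h
    mono_f := inferInstanceAs (Mono (K.iCycles n))
    epi_g := inferInstanceAs (Epi (K.toCycles n m)) }

lemma epi_toCycles (n m : ℤ) (h : n + 1 = m) (hm : IsZero (K.homology m)) : Epi (K.toCycles n m) :=
  Preadditive.epi_of_isZero_cokernel _ (hm.of_iso (IsColimit.coconePointUniqueUpToIso (cokernelIsCokernel _)
    (K.homologyIsCokernel n m (by simp [← h]))))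

variable {P : A → Prop} (hP : Adapted G P) (a N : ℤ) (ha : ∀ n, n < a → IsZero (K.X n))
  (hK : ∀ n, P (K.X n)) (hex : ∀ n, n < N → IsZero (K.homology n))

include hP ha hK hex

/-- the cycles below the bound are adapted -/
theorem adapted_cycles : ∀ (k : ℕ) (n : ℤ), n < a + k → n < N → P (K.cycles n) := by
  intro k
  induction k with
  | zero =>
    exact fun n hn _ => hP.zero _ (IsZero.of_mono (K.iCycles n) (ha n (by simpa using hn)))
  | succ k ih =>
    intro n hn hN
    obtain ⟨m, rfl⟩ : ∃ m, m + 1 = n := ⟨n - 1, sub_add_cancel n 1⟩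
    haveI := epi_toCycles K m (m + 1) rfl (hex _ hN)
    exact hP.quot _ (cyclesSC_shortExact K m (m + 1) rfl) (ih m (by push_cast at hn; omega) (by omega)) (hK m)

theorem adapted_cycles' (n : ℤ) (hn : n < N) : P (K.cycles n) :=
  adapted_cycles G K hP a N ha hK hex (n + 1 - a).toNat n (by omega) hn

theorem isZero_homology_map (n : ℤ) (hn : n < N) :
    IsZero (((G.mapHomologicalComplex (ComplexShape.up ℤ)).obj K).homology n) := by
  obtain ⟨m, rfl⟩ : ∃ m, m + 1 = n := ⟨n - 1, sub_add_cancel n 1⟩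
  rw [← HomologicalComplex.exactAt_iff_isZero_homology,
    HomologicalComplex.exactAt_iff' _ m (m + 1) (m + 1 + 1) (by simp) (by simp)]
  haveI := epi_toCycles K m (m + 1) rfl (hex _ hn)
  haveI he : Epi (G.map (K.toCycles m (m + 1))) :=
    hP.epi _ (cyclesSC_shortExact K m (m + 1) rfl) (adapted_cycles' G K hP a N ha hK hex m (by omega))
  let S₁ := (ShortComplex.mk (K.iCycles (m + 1)) (K.d (m + 1) (m + 1 + 1)) (K.iCycles_d _ _)).map G
  have h₁ : S₁.Exact := (cyclesFork_exact K (m + 1) (m + 1 + 1) rfl).map_of_mono_of_preservesKernel G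
    (inferInstanceAs (Mono (K.iCycles (m + 1)))) inferInstance
  let φ : ((G.mapHomologicalComplex (ComplexShape.up ℤ)).obj K).sc' m (m + 1) (m + 1 + 1) ⟶ S₁ :=
    { τ₁ := G.map (K.toCycles m (m + 1)), τ₂ := 𝟙 _, τ₃ := 𝟙 _
      comm₁₂ := by
        refine Eq.trans ?_ (Category.comp_id _).symm
        exact (G.map_comp _ _).symm.trans (congrArg G.map (K.toCycles_i m (m + 1)))
      comm₂₃ := (Category.id_comp _).trans (Category.comp_id _).symm }
  haveI : Epi φ.τ₁ := he
  haveI : IsIso φ.τ₂ := inferInstanceAs (IsIso (𝟙 _))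
  haveI : Mono φ.τ₃ := inferInstanceAs (Mono (𝟙 _))
  exact (ShortComplex.exact_iff_of_epi_of_isIso_of_mono φ).2 h₁

theorem nonempty_homology_map_iso :
    Nonempty (((G.mapHomologicalComplex (ComplexShape.up ℤ)).obj K).homology N ≅ G.obj (K.homology N)) := by
  obtain ⟨m, rfl⟩ : ∃ m, m + 1 = N := ⟨N - 1, sub_add_cancel N 1⟩
  let π := K.homologyπ (m + 1)
  let hc := K.homologyIsCokernel m (m + 1) (by simp)
  haveI : Epi π := inferInstanceAs (Epi (K.homologyπ (m + 1)))
  let l : K.X m ⟶ kernel π := kernel.lift π (K.toCycles m (m + 1)) (K.toCycles_comp_homologyπ _ _)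
  have hl : l ≫ kernel.ι π = K.toCycles m (m + 1) := kernel.lift_ι _ _ _
  haveI : Epi l := (ShortComplex.exact_of_g_is_cokernel
    (ShortComplex.mk (K.toCycles m (m + 1)) π (K.toCycles_comp_homologyπ _ _)) hc).epi_kernelLift
  let S₀ : ShortComplex A := ShortComplex.mk (K.iCycles m) l (by
    rw [← cancel_mono (kernel.ι π), Category.assoc, hl, zero_comp]
    exact (cyclesSC K m (m + 1)).zero)
  have hS₀ : S₀.ShortExact :=
    { exact := by
        let φ : S₀ ⟶ cyclesSC K m (m + 1) :=
          { τ₁ := 𝟙 _, τ₂ := 𝟙 _, τ₃ := kernel.ι π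
            comm₁₂ := (Category.id_comp _).trans (Category.comp_id _).symm
            comm₂₃ := (Category.id_comp _).trans hl.symm }
        haveI : Epi φ.τ₁ := inferInstanceAs (Epi (𝟙 _))
        haveI : IsIso φ.τ₂ := inferInstanceAs (IsIso (𝟙 _))
        haveI : Mono φ.τ₃ := inferInstanceAs (Mono (kernel.ι π))
        exact (ShortComplex.exact_iff_of_epi_of_isIso_of_mono φ).2 (cyclesSC_exact K m (m + 1) rfl)
      mono_f := inferInstanceAs (Mono (K.iCycles m))
      epi_g := ‹Epi l› }
  have hZ : P (K.cycles m) := adapted_cycles' G K hP a (m + 1) ha hK hex m (by omega)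
  haveI hl' : Epi (G.map l) := hP.epi _ hS₀ hZ
  let S₂ : ShortComplex A := ShortComplex.mk (kernel.ι π) π (kernel.condition _)
  have hS₂ : S₂.ShortExact :=
    { exact := ShortComplex.exact_of_f_is_kernel _ (kernelIsKernel π)
      mono_f := inferInstanceAs (Mono (kernel.ι π))
      epi_g := ‹Epi π› }
  haveI hπ : Epi (G.map π) := hP.epi _ hS₂ (hP.quot _ hS₀ hZ (hK m))
  -- the left homology data of the image complex
  let GK := (G.mapHomologicalComplex (ComplexShape.up ℤ)).obj K
  let S := GK.sc' m (m + 1) (m + 1 + 1)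
  let hi₀ := KernelFork.mapIsLimit _ (K.cyclesIsKernel (m + 1) (m + 1 + 1) (by simp)) G
  have wi : G.map (K.iCycles (m + 1)) ≫ S.g = 0 := by
    show G.map (K.iCycles (m + 1)) ≫ G.map (K.d (m + 1) (m + 1 + 1)) = 0
    rw [← G.map_comp, K.iCycles_d, G.map_zero]
  let hi : IsLimit (KernelFork.ofι (G.map (K.iCycles (m + 1))) wi) :=
    IsLimit.ofIsoLimit hi₀ (Fork.ext (Iso.refl _) (by simp))
  have hfac : G.map (K.toCycles m (m + 1)) ≫ G.map (K.iCycles (m + 1)) = S.f :=
    (G.map_comp _ _).symm.trans (congrArg G.map (K.toCycles_i m (m + 1)))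
  have hlift : hi.lift (KernelFork.ofι S.f S.zero) = G.map (K.toCycles m (m + 1)) :=
    Fork.IsLimit.hom_ext hi ((hi.fac (KernelFork.ofι S.f S.zero) WalkingParallelPair.zero).trans hfac.symm)
  have wπ : hi.lift (KernelFork.ofι S.f S.zero) ≫ G.map π = 0 := by
    rw [hlift, ← G.map_comp, K.toCycles_comp_homologyπ, G.map_zero]
  have hex₂ : (ShortComplex.mk (G.map (K.toCycles m (m + 1))) (G.map π)
      (by rw [← G.map_comp, K.toCycles_comp_homologyπ, G.map_zero])).Exact := by
    let φ : ShortComplex.mk (G.map (K.toCycles m (m + 1))) (G.map π)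
        (by rw [← G.map_comp, K.toCycles_comp_homologyπ, G.map_zero]) ⟶ S₂.map G :=
      { τ₁ := G.map l, τ₂ := 𝟙 _, τ₃ := 𝟙 _
        comm₁₂ := ((G.map_comp _ _).symm.trans (congrArg G.map hl)).trans (Category.comp_id _).symm
        comm₂₃ := (Category.id_comp _).trans (Category.comp_id _).symm }
    haveI : Epi φ.τ₁ := hl'
    haveI : IsIso φ.τ₂ := inferInstanceAs (IsIso (𝟙 _))
    haveI : Mono φ.τ₃ := inferInstanceAs (Mono (𝟙 _))
    exact (ShortComplex.exact_iff_of_epi_of_isIso_of_mono φ).2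
      (hS₂.exact.map_of_mono_of_preservesKernel G hS₂.mono_f inferInstance)
  haveI : Epi (ShortComplex.mk (G.map (K.toCycles m (m + 1))) (G.map π)
      (by rw [← G.map_comp, K.toCycles_comp_homologyπ, G.map_zero])).g := hπ
  let h : S.LeftHomologyData :=
    { K := _, H := G.obj (K.homology (m + 1)), i := G.map (K.iCycles (m + 1)), π := G.map π
      wi := wi, hi := hi, wπ := wπ
      hπ := IsCokernel.ofIso _ hex₂.gIsCokernel _ (Iso.refl _) (Iso.refl _) (Iso.refl _)
        (by simp [hlift]) (by simp) }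
  exact ⟨GK.homologyIsoSc' m (m + 1) (m + 1 + 1) (by simp) (by simp) ≪≫ h.homologyIso⟩

end Generic

section Sections

open AlgebraicGeometry TopologicalSpace Opposite

variable (X : Scheme.{u})

/-- flasque modules -/
def IsFlM (M : X.Modules) : Prop := TopCat.Sheaf.IsFlasque (Coh.toAb M)

instance preservesFiniteLimits_gammaAb : PreservesFiniteLimits (DCoh.gammaAb X) := by
  haveI : PreservesFiniteLimits (Scheme.Modules.toPresheaf X) := inferInstance
  haveI : PreservesFiniteLimits ((evaluation (Opens X)ᵒᵖ AddCommGrpCat.{u}).obj (op ⊤)) :=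
    ⟨fun J _ _ => inferInstance⟩
  exact comp_preservesFiniteLimits (Scheme.Modules.toPresheaf X)
    ((evaluation (Opens X)ᵒᵖ AddCommGrpCat.{u}).obj (op ⊤))

/-- flasque modules are adapted to global sections -/
theorem adapted_gammaAb : Adapted (DCoh.gammaAb X) (IsFlM X) where
  zero M hM := LCZ.isFlasque_of_isZero ((SheafOfModules.toSheaf.{u} X.ringCatSheaf).map_isZero hM)
  epi S hS h₁ := by
    haveI : PreservesFiniteLimits (SheafOfModules.toSheaf.{u} X.ringCatSheaf) := inferInstance
    haveI : PreservesFiniteColimits (SheafOfModules.toSheaf.{u} X.ringCatSheaf) :=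
      CohQC.toSheaf_preservesFiniteColimits X.ringCatSheaf
    haveI : TopCat.Sheaf.IsFlasque (S.map (SheafOfModules.toSheaf X.ringCatSheaf)).X₁ := h₁
    exact TopCat.Sheaf.IsFlasque.epi_of_shortExact (U := (⊤ : Opens X))
      (hS.map_of_exact (SheafOfModules.toSheaf X.ringCatSheaf))
  quot S hS h₁ h₂ := by
    haveI : PreservesFiniteLimits (SheafOfModules.toSheaf.{u} X.ringCatSheaf) := inferInstance
    haveI : PreservesFiniteColimits (SheafOfModules.toSheaf.{u} X.ringCatSheaf) :=
      CohQC.toSheaf_preservesFiniteColimits X.ringCatSheaf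
    haveI : TopCat.Sheaf.IsFlasque (S.map (SheafOfModules.toSheaf X.ringCatSheaf)).X₁ := h₁
    haveI : TopCat.Sheaf.IsFlasque (S.map (SheafOfModules.toSheaf X.ringCatSheaf)).X₂ := h₂
    exact TopCat.Sheaf.IsFlasque.of_shortExact_of_isFlasque₁₂
      (hS.map_of_exact (SheafOfModules.toSheaf X.ringCatSheaf))

end Sections

end Groth.Agent.DCohGammaZ
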