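import Groth.Agent.DCohGammaZ.Basic
import Groth.Agent.DCohGammaZ.FlasqueCx
import Groth.Agent.DQCoh.DerCalc
import Groth.Agent.GrothSS.Main
import Groth.Agent.LCZVan.KoszulRegular
import Groth.Agent.SerrePn.ClosedDepth
import Groth.Agent.S6034
import Groth.Agent.TopGodement.Main
import Groth.Agent.K0Coh.Basic

/-!
Complexes of locally free modules along a closed subset of depth `≥ d`: hypercohomology with supports.
-/

set_option autoImplicit false
set_option backward.isDefEq.respectTransparency false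
set_option backward.isDefEq.respectTransparency.types false
set_option linter.style.haveILetI false
set_option linter.unusedSectionVars false

universe u

open CategoryTheory Limits Pretriangulated AlgebraicGeometry

attribute [local instance] HasDerivedCategory.standard

namespace Groth.Agent.DCohGammaZ

open Groth.Agent.DQCoh (RD)

variable {U X : Scheme.{u}} (j : U ⟶ X) [IsOpenImmersion j]

theorem hasRgammaZ : CxOX.HasRgammaZ j :=
  (KInj.isDeforming_Qh DerPush.exists_kInj_sch _).hasRightDerivedFunctor _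

/-- `RΓ_Z` of a K-injective complex -/
theorem nonempty_rgamma_rep [CxOX.HasRgammaZ j] (I : CochainComplex X.Modules ℤ) [I.IsKInjective] :
    Nonempty ((CxOX.RgammaZ j).obj (DerivedCategory.Q.obj I) ≅ DerivedCategory.Q.obj ((gC j).obj I)) := by
  haveI hu := isIso_gUnit_app j (I := (HomotopyCategory.quotient _ _).obj I) ‹_›
  let a : DerivedCategory.Qh.obj ((HomotopyCategory.quotient _ _).obj ((gC j).obj I)) ≅
      (CxOX.RgammaZ j).obj (DerivedCategory.Qh.obj ((HomotopyCategory.quotient _ _).obj I)) :=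
    @asIso _ _ _ _ ((gUnit j).app ((HomotopyCategory.quotient _ _).obj I)) hu
  exact ⟨(CxOX.RgammaZ j).mapIso ((DerivedCategory.quotientCompQhIso X.Modules).app I).symm ≪≫ a.symm ≪≫
    (DerivedCategory.quotientCompQhIso X.Modules).app _⟩

/-- `RΓ_Z(X, -)` of a K-injective complex -/
theorem nonempty_rsect_rep [CxOX.HasRsectZ j] (I : CochainComplex X.Modules ℤ) [I.IsKInjective] :
    Nonempty ((CxOX.RsectZ j).obj (DerivedCategory.Q.obj I) ≅
      DerivedCategory.Q.obj (((CxOX.sectZAb j).mapHomologicalComplex (ComplexShape.up ℤ)).obj I)) := by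
  haveI hu := (KInj.isDeforming_Qh DerPush.exists_kInj_sch (CxOX.sectZKh j)).isIso_app
    (HomotopyCategory.quasiIso X.Modules (ComplexShape.up ℤ)) (CxOX.RsectZ j)
    ((CxOX.sectZKh j).totalRightDerivedUnit DerivedCategory.Qh
      (HomotopyCategory.quasiIso X.Modules (ComplexShape.up ℤ)))
    (show KInj.kinjProp X.Modules ((HomotopyCategory.quotient _ _).obj I) from ‹_›)
  let a : DerivedCategory.Qh.obj ((HomotopyCategory.quotient _ _).obj
      (((CxOX.sectZAb j).mapHomologicalComplex (ComplexShape.up ℤ)).obj I)) ≅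
      (CxOX.RsectZ j).obj (DerivedCategory.Qh.obj ((HomotopyCategory.quotient _ _).obj I)) :=
    @asIso _ _ _ _ (((CxOX.sectZKh j).totalRightDerivedUnit DerivedCategory.Qh
      (HomotopyCategory.quasiIso X.Modules (ComplexShape.up ℤ))).app ((HomotopyCategory.quotient _ _).obj I)) hu
  exact ⟨(CxOX.RsectZ j).mapIso ((DerivedCategory.quotientCompQhIso X.Modules).app I).symm ≪≫ a.symm ≪≫
    (DerivedCategory.quotientCompQhIso AddCommGrpCat.{u}).app _⟩

/-- no maps from supported objects concentrated below `N` -/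
def Orth (N : ℤ) (E : DCoh.D X) : Prop :=
  ∀ B : DCoh.D X, IsZero ((RD j).obj B) → B.IsLE (N - 1) → ∀ f : B ⟶ E, f = 0

variable {j}

theorem orth_mono {N N' : ℤ} (h : N' ≤ N) {E : DCoh.D X} (hE : Orth j N E) : Orth j N' E := fun B hB hle f =>
  hE B hB (by
    haveI := hle
    exact DerivedCategory.TStructure.t.isLE_of_le B (N' - 1) (N - 1) (by omega)) f

theorem orth_of_iso {N : ℤ} {E E' : DCoh.D X} (e : E ≅ E') (hE : Orth j N E) : Orth j N E' := fun B hB hle f => by
  rw [← cancel_mono e.inv, zero_comp]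
  exact hE B hB hle _

theorem orth_ext₂ {N : ℤ} {T : Triangle (DCoh.D X)} (hT : T ∈ distTriang (DCoh.D X)) (h₁ : Orth j N T.obj₁)
    (h₃ : Orth j N T.obj₃) : Orth j N T.obj₂ := fun B hB hle f => by
  obtain ⟨g, hg⟩ := Triangle.coyoneda_exact₂ _ hT f (h₃ B hB hle _)
  rw [hg, h₁ B hB hle g, zero_comp]

theorem orth_shift {N k : ℤ} {E : DCoh.D X} (hE : Orth j (N + k) E) : Orth j N (E⟦k⟧) := fun B hB hle f => by
  haveI := hle
  have h := hE (B⟦-k⟧) (isZero_RD_shift j hB (-k))
    (DerivedCategory.TStructure.t.isLE_shift B (N - 1) (-k) (N + k - 1) (by omega))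
    (f⟦-k⟧' ≫ (shiftFunctorCompIsoId (DCoh.D X) k (-k) (add_neg_cancel k)).hom.app E)
  refine (shiftFunctor (DCoh.D X) (-k)).map_injective ?_
  rw [Functor.map_zero, ← cancel_mono ((shiftFunctorCompIsoId (DCoh.D X) k (-k) (add_neg_cancel k)).hom.app E),
    zero_comp]
  exact h

theorem orth_of_isGE {N : ℤ} {E : DCoh.D X} (hE : E.IsGE N) : Orth j N E := fun B _ hle f =>
  DerivedCategory.TStructure.t.zero_of_isLE_of_isGE f (N - 1) N (by omega) hle hE

/-- vanishing of cohomology with supports gives orthogonality -/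
theorem orth_of_hd [CxOX.HasRgammaZ j] {N : ℤ} {E : DCoh.D X}
    (h : ∀ n < N, IsZero (DCoh.HD ((CxOX.RgammaZ j).obj E) n)) : Orth j N E := fun B hB hle f => by
  obtain ⟨α, rfl⟩ := exists_lift j hB f
  rw [DerivedCategory.TStructure.t.zero_of_isLE_of_isGE α (N - 1) N (by omega) hle
    ((DerivedCategory.isGE_iff _ N).2 h), zero_comp]

/-- orthogonality gives vanishing of cohomology with supports -/
theorem hd_of_orth [CxOX.HasRgammaZ j] {N : ℤ} {E : DCoh.D X} (hE : Orth j N E) (n : ℤ) (hn : n < N) :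
    IsZero (DCoh.HD ((CxOX.RgammaZ j).obj E) n) := by
  let W := (CxOX.RgammaZ j).obj E
  let T := (DerivedCategory.TStructure.t.triangleLEGE (N - 1) N (by omega)).obj W
  have hT : T ∈ distTriang (DCoh.D X) :=
    DerivedCategory.TStructure.t.triangleLEGE_distinguished (N - 1) N (by omega) W
  haveI h₁ : T.obj₁.IsLE (N - 1) :=
    inferInstanceAs (DerivedCategory.TStructure.t.IsLE ((DerivedCategory.TStructure.t.truncLE (N - 1)).obj W) (N - 1))
  haveI h₃ : T.obj₃.IsGE N :=
    inferInstanceAs (DerivedCategory.TStructure.t.IsGE ((DerivedCategory.TStructure.t.truncGE N).obj W) N)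
  let H := DerivedCategory.homologyFunctor X.Modules
  have hmono : ∀ i < N, Mono ((H i).map T.mor₁) := fun i hi =>
    (DerivedCategory.HomologySequence.mono_homologyMap_mor₁_iff T hT (i - 1) i (by omega)).2
      ((DerivedCategory.isZero_of_isGE T.obj₃ N (i - 1) (by omega)).eq_of_src _ _)
  have hsupp : IsZero ((RD j).obj T.obj₁) := by
    refine PerfGen.isZero_of_suppD_empty fun i x hx => ?_
    have hz : IsZero (DCoh.HD ((RD j).obj T.obj₁) i) := by
      by_cases hi : i < N
      · haveI := hmono i hi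
        haveI : Mono ((Scheme.Modules.restrictFunctor j).map ((H i).map T.mor₁)) := inferInstance
        have hz' : IsZero ((Scheme.Modules.restrictFunctor j).obj ((H i).obj W)) :=
          ((DerivedCategory.homologyFunctor U.Modules i).map_isZero (isZero_RD_RgammaZ j E)).of_iso
            (PerfGen.hdRD j W i).symm
        refine IsZero.of_iso ?_ (PerfGen.hdRD j T.obj₁ i)
        exact IsZero.of_mono_eq_zero _ (hz'.eq_of_tgt ((Scheme.Modules.restrictFunctor j).map ((H i).map T.mor₁)) 0)
      · exact ((Scheme.Modules.restrictFunctor j).map_isZero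
          (DerivedCategory.isZero_of_isLE T.obj₁ (N - 1) i (by omega))).of_iso (PerfGen.hdRD j T.obj₁ i)
    exact (PerfGen.mem_support_iff _ x).1 hx ((DerSch.stalkFunctor U x).map_isZero hz)
  have h0 : T.mor₁ = 0 := lift_unique j hsupp T.mor₁ 0 (by
    rw [zero_comp]
    exact hE _ hsupp h₁ _)
  haveI : Epi ((H n).map T.mor₁) :=
    (DerivedCategory.HomologySequence.epi_homologyMap_mor₁_iff T hT n).2
      ((DerivedCategory.isZero_of_isGE T.obj₃ N n hn).eq_of_tgt _ _)
  exact IsZero.of_epi_eq_zero ((H n).map T.mor₁) (by rw [h0, Functor.map_zero])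

variable (j)

/-- one module -/
theorem orth_single [CxOX.HasRgammaZ j] [HasInjectiveResolutions X.Modules] (d : ℕ) (F : X.Modules)
    (hF : ∀ q < d, IsZero ((LocCohZ.HZshM j q).obj F)) : Orth j d (DCoh.inD X F) := by
  refine orth_of_hd fun n hn => ?_
  let R := injectiveResolution F
  haveI : R.cochainComplex.IsKInjective := CochainComplex.isKInjective_of_injective R.cochainComplex 0
  obtain ⟨e⟩ := nonempty_rgamma_rep j R.cochainComplex
  let e' : DCoh.inD X F ≅ DerivedCategory.Q.obj R.cochainComplex :=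
    (DerivedCategory.singleFunctorIsoCompQ X.Modules 0).app F ≪≫ asIso (DerivedCategory.Q.map R.ι')
  refine IsZero.of_iso ?_ ((DerivedCategory.homologyFunctor X.Modules n).mapIso
    ((CxOX.RgammaZ j).mapIso e' ≪≫ e) ≪≫ (DerivedCategory.homologyFunctorFactors X.Modules n).app _)
  rcases lt_or_ge n 0 with hn' | hn'
  · exact ShortComplex.isZero_homology_of_isZero_X₂ _
      ((DCoh.gammaZ j).map_isZero (CochainComplex.isZero_of_isStrictlyGE R.cochainComplex 0 n hn'))
  · lift n to ℕ using hn'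
    obtain ⟨e''⟩ := GrothSS.nonempty_homology_map_resolution (DCoh.gammaZ j) R n
    exact (hF n (by omega)).of_iso e''

/-- a complex in one degree -/
theorem nonempty_Q_single_iso (K : CochainComplex X.Modules ℤ) (m : ℤ) (hK : ∀ i, i ≠ m → IsZero (K.X i)) :
    Nonempty (DerivedCategory.Q.obj K ≅ (DCoh.inD X (K.X m))⟦-m⟧) := by
  let e : K ≅ (CochainComplex.singleFunctor X.Modules m).obj (K.X m) :=
    HomologicalComplex.Hom.isoOfComponents (fun i => if h : i = m
        then K.XIsoOfEq h ≪≫ (HomologicalComplex.singleObjXSelf (ComplexShape.up ℤ) m (K.X m)).symm ≪≫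
          (((HomologicalComplex.single X.Modules (ComplexShape.up ℤ) m).obj (K.X m)).XIsoOfEq h).symm
        else (hK i h).iso (HomologicalComplex.isZero_single_obj_X _ m _ i h))
      fun i i' hi => by
        by_cases h : i = m
        · exact (HomologicalComplex.isZero_single_obj_X (ComplexShape.up ℤ) m (K.X m) i'
            (by rintro rfl; simp at hi; omega)).eq_of_tgt _ _
        · exact (hK i h).eq_of_src _ _
  exact ⟨DerivedCategory.Q.mapIso e ≪≫ ((DerivedCategory.singleFunctorIsoCompQ X.Modules m).app (K.X m)).symm ≪≫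
    (((DerivedCategory.singleFunctors X.Modules).shiftIso (-m) m 0 (by omega)).app (K.X m)).symm⟩

variable {j} in
theorem orth_complex [CxOX.HasRgammaZ j] [HasInjectiveResolutions X.Modules] (d : ℕ) :
    ∀ (k : ℕ), k ≤ d → ∀ K : CochainComplex X.Modules ℤ, (∀ i, i < 2 * (d : ℤ) - k → IsZero (K.X i)) →
      (∀ i, ∀ q < d, IsZero ((LocCohZ.HZshM j q).obj (K.X i))) → Orth j (2 * d) (DerivedCategory.Q.obj K) := by
  intro k
  induction k with
  | zero =>
    intro _ K hK _
    refine orth_of_isGE ((DerivedCategory.isGE_iff _ _).2 fun i hi => ?_)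
    exact (ShortComplex.isZero_homology_of_isZero_X₂ _ (hK i (by simpa using hi))).of_iso
      ((DerivedCategory.homologyFunctorFactors X.Modules i).app K)
  | succ k ih =>
    intro hk K hK hF
    let m : ℤ := 2 * d - (k + 1 : ℕ)
    have hS := DQCoh.σSeq_shortExact K (m + 1)
    have hT := DerivedCategory.triangleOfSES_distinguished hS
    have h₁ : Orth j (2 * d) (DerivedCategory.Q.obj (DQCoh.σGE K (m + 1))) := by
      refine ih (by omega) _ (fun i hi => DQCoh.isZero_σGE_X K (m + 1) i (by simp only [m]; push_cast; omega))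
        fun i q hq => ?_
      by_cases hi : m + 1 ≤ i
      · haveI := DQCoh.isIso_σι_f K (m + 1) i hi
        exact (hF i q hq).of_iso ((LocCohZ.HZshM j q).mapIso (asIso ((DQCoh.σι K (m + 1)).f i)))
      · exact (LocCohZ.HZshM j q).map_isZero (DQCoh.isZero_σGE_X K (m + 1) i (not_le.1 hi))
    let Q₃ := (DQCoh.σSeq K (m + 1)).X₃
    have h₃ : Orth j (2 * d) (DerivedCategory.Q.obj Q₃) := by
      have hz : ∀ i, i ≠ m → IsZero (Q₃.X i) := fun i hi => by
        rcases lt_or_gt_of_ne hi with h | h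
        · haveI := hS.epi_g
          haveI : Epi ((DQCoh.σSeq K (m + 1)).g.f i) := inferInstance
          exact IsZero.of_epi ((DQCoh.σSeq K (m + 1)).g.f i) (hK i (by simp only [m] at h; push_cast at h ⊢; omega))
        · exact DQCoh.isZero_σQuot K (m + 1) i (by omega)
      haveI : IsIso ((DQCoh.σSeq K (m + 1)).g.f m) :=
        (hS.map_of_exact (HomologicalComplex.eval _ _ m)).isIso_g_iff.2
          (DQCoh.isZero_σGE_X K (m + 1) m (by omega))
      obtain ⟨e⟩ := nonempty_Q_single_iso Q₃ m hz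
      have hm : (d : ℤ) ≤ m := by simp only [m]; push_cast; omega
      refine orth_of_iso e.symm (orth_shift (orth_mono (by omega : (2 * d : ℤ) + -m ≤ d) (orth_single j d _ ?_)))
      exact fun q hq => (hF m q hq).of_iso
        ((LocCohZ.HZshM j q).mapIso (asIso ((DQCoh.σSeq K (m + 1)).g.f m)).symm)
    exact orth_ext₂ hT h₁ h₃

/-- vanishing of the local cohomology sheaves of a locally free module below the depth -/
theorem isZero_HZshM_of_depth [IsLocallyNoetherian X] [HasInjectiveResolutions X.Modules] (d : ℕ)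
    (hdepth : ∀ y : ↥X, y ∉ Set.range j.base →
      (d : ℕ∞) ≤ LocCoh.depth ↑(X.presheaf.stalk y) ↑(X.presheaf.stalk y))
    (F : X.Modules) (hF : IsZero F ∨ FlatMod.IsFinLocFree F) (q : ℕ) (hq : q < d) :
    IsZero ((LocCohZ.HZshM j q).obj F) := by
  rcases hF with hF | hF
  · exact (LocCohZ.HZshM j q).map_isZero hF
  refine LCZVan.isZero_HZshM j j.opensRange rfl F q ?_
  have hc : Coh.IsCoh F := K0Coh.isCoh_of_isFinLocFree hF
  refine (S6034.result X j.opensRange F hc d).2 (fun x hx => ?_) q hq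
  haveI := RegDual.finite_stalk hc x
  haveI := LocFree.free_stalk_of_isFinLocFree hF x
  exact SerrePn.le_depth_free (hdepth x hx) _

variable [IsLocallyNoetherian X] (d : ℕ)
  (hdepth : ∀ y : ↥X, y ∉ Set.range j.base →
    (d : ℕ∞) ≤ LocCoh.depth ↑(X.presheaf.stalk y) ↑(X.presheaf.stalk y))
  (K : CochainComplex X.Modules ℤ) (hK : ∀ i : ℤ, i < (d : ℤ) → IsZero (K.X i))
  (hKlf : ∀ i : ℤ, FlatMod.IsFinLocFree (K.X i))

include hdepth hK hKlf

theorem isZero_HD_rgamma_of_depth [CxOX.HasRgammaZ j] (n : ℤ) (hn : n < 2 * (d : ℤ)) :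
    IsZero (DCoh.HD ((CxOX.RgammaZ j).obj (DCoh.toD X K)) n) := by
  haveI := RPushQC.hasInjectiveResolutions X
  refine hd_of_orth (orth_complex d d le_rfl K (fun i hi => hK i (by omega)) fun i q hq => ?_) n hn
  exact isZero_HZshM_of_depth j d hdepth _ (Or.inr (hKlf i)) q hq

/-- the complex computing hypercohomology with supports -/
theorem exists_sect_model [CxOX.HasRsectZ j] :
    ∃ C : CochainComplex X.Modules ℤ, (∀ n, n < (d : ℤ) → IsZero (C.X n)) ∧ (∀ n, IsFlM X (C.X n)) ∧
      (∀ n, n < 2 * (d : ℤ) → IsZero (C.homology n)) ∧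
      (∀ n : ℤ, Nonempty ((DerivedCategory.homologyFunctor AddCommGrpCat.{u} n).obj
        ((CxOX.RsectZ j).obj (DCoh.toD X K)) ≅
          (((DCoh.gammaAb X).mapHomologicalComplex (ComplexShape.up ℤ)).obj C).homology n)) ∧
      (∀ [CxOX.HasRgammaZ j] (n : ℤ),
        Nonempty (DCoh.HD ((CxOX.RgammaZ j).obj (DCoh.toD X K)) n ≅ C.homology n)) := by
  haveI hR := hasRgammaZ j
  haveI := DerPush.isGrothendieckAbelian_modules X
  haveI : K.IsStrictlyGE (d : ℤ) := (CochainComplex.isStrictlyGE_iff _ _).2 hK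
  obtain ⟨I, f, hf, hI, hge⟩ := CochainComplex.Plus.modelCategoryQuillen.exists_quasiIso_injective K (d : ℤ)
  haveI := hge
  haveI := hI
  haveI : I.IsKInjective := CochainComplex.isKInjective_of_injective I (d : ℤ)
  haveI := hf
  let C := (gC j).obj I
  let e : DCoh.toD X K ≅ DerivedCategory.Q.obj I := asIso (DerivedCategory.Q.map f)
  have hg : ∀ [CxOX.HasRgammaZ j] (n : ℤ),
      Nonempty (DCoh.HD ((CxOX.RgammaZ j).obj (DCoh.toD X K)) n ≅ C.homology n) := by
    intro _ n
    obtain ⟨eg⟩ := nonempty_rgamma_rep j I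
    exact ⟨(DerivedCategory.homologyFunctor X.Modules n).mapIso ((CxOX.RgammaZ j).mapIso e ≪≫ eg) ≪≫
      (DerivedCategory.homologyFunctorFactors X.Modules n).app C⟩
  refine ⟨C, fun n hn => (DCoh.gammaZ j).map_isZero (CochainComplex.isZero_of_isStrictlyGE I (d : ℤ) n hn),
    fun n => ?_, fun n hn => ?_, fun n => ?_, hg⟩
  · haveI : TopCat.Sheaf.IsFlasque (Coh.toAb (I.X n)) := CohQC.isFlasque_toAb_of_injective (I.X n)
    haveI := LCZ.isFlasque_sectSupp (X := X.carrier) j.opensRange (Coh.toAb (I.X n))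
    exact TopGodement.isFlasque_of_iso ((LCZQC.gammaToAbIso j j.opensRange rfl).app (I.X n)).symm this
  · exact (isZero_HD_rgamma_of_depth j d hdepth K hK hKlf n hn).of_iso (hg n).some.symm
  · obtain ⟨es⟩ := nonempty_rsect_rep j I
    exact ⟨(DerivedCategory.homologyFunctor AddCommGrpCat.{u} n).mapIso ((CxOX.RsectZ j).mapIso e ≪≫ es) ≪≫
      (DerivedCategory.homologyFunctorFactors AddCommGrpCat.{u} n).app _ ≪≫
      (HomologicalComplex.homologyFunctor _ _ n).mapIso
        ((Functor.mapHomologicalComplexCompIso (Iso.refl (DCoh.gammaZ j ⋙ DCoh.gammaAb X))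
          (ComplexShape.up ℤ)).app I).symm⟩

theorem isZero_homology_rsect [CxOX.HasRsectZ j] (n : ℤ) (hn : n < 2 * (d : ℤ)) :
    IsZero ((DerivedCategory.homologyFunctor AddCommGrpCat.{u} n).obj ((CxOX.RsectZ j).obj (DCoh.toD X K))) := by
  obtain ⟨C, ha, hfl, hex, hs, -⟩ := exists_sect_model j d hdepth K hK hKlf
  obtain ⟨e⟩ := hs n
  exact (isZero_homology_map (DCoh.gammaAb X) C (adapted_gammaAb X) d (2 * d) ha hfl hex n hn).of_iso e

theorem nonempty_sections_iso [CxOX.HasRgammaZ j] [CxOX.HasRsectZ j] :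
    Nonempty ((DCoh.gammaAb X).obj (DCoh.HD ((CxOX.RgammaZ j).obj (DCoh.toD X K)) (2 * (d : ℤ))) ≅
      (DerivedCategory.homologyFunctor AddCommGrpCat.{u} (2 * (d : ℤ))).obj
        ((CxOX.RsectZ j).obj (DCoh.toD X K))) := by
  obtain ⟨C, ha, hfl, hex, hs, hg⟩ := exists_sect_model j d hdepth K hK hKlf
  obtain ⟨e⟩ := hs (2 * (d : ℤ))
  obtain ⟨e'⟩ := hg (2 * (d : ℤ))
  obtain ⟨w⟩ := nonempty_homology_map_iso (DCoh.gammaAb X) C (adapted_gammaAb X) d (2 * d) ha hfl hex
  exact ⟨(DCoh.gammaAb X).mapIso e' ≪≫ w.symm ≪≫ e.symm⟩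

end Groth.Agent.DCohGammaZ
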