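import Groth.Agent.DCohGammaZ.Basic

/-!
# `RΓ_Z` and restriction to an open
-/

set_option autoImplicit false
set_option backward.isDefEq.respectTransparency false
set_option backward.isDefEq.respectTransparency.types false
set_option linter.style.haveILetI false
set_option linter.unusedSectionVars false

universe u

open CategoryTheory Limits Pretriangulated AlgebraicGeometry

attribute [local instance] HasDerivedCategory.standard

namespace Groth.Agent.DCohGammaZ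

open Groth.Agent.DQCoh (RD)
open Groth.Agent.PerfGen (adjR SuppD isZero_RD_iff suppD_mono suppD_RD bcO interO)

variable {X Xbar : Scheme.{u}} (j : X ⟶ Xbar) [IsOpenImmersion j] (W : Xbar.Opens)

lemma isZero_RD_preimage {E : DCoh.D Xbar} (h : IsZero ((RD W.ι).obj E)) :
    IsZero ((RD (j ⁻¹ᵁ W).ι).obj ((RD j).obj E)) := by
  refine (isZero_RD_iff _ _).2 (suppD_mono ?_ (suppD_RD j ((isZero_RD_iff W.ι E).1 h)))
  rw [Scheme.Opens.range_ι, Scheme.Opens.range_ι]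
  exact fun x hx h => hx h

lemma hom_RD_rpush_eq_zero {B : DCoh.D X} (hB : IsZero ((RD (j ⁻¹ᵁ W).ι).obj B)) {G : DCoh.D W}
    (f : B ⟶ (RD j).obj ((DCoh.Rpush W.ι).obj G)) : f = 0 := by
  let e : (RD j).obj ((DCoh.Rpush W.ι).obj G) ≅ _ := (bcO W.ι j).app G
  rw [← cancel_mono e.hom, zero_comp]
  refine hom_eq_zero (interO W.ι j).ι ?_ _
  refine (isZero_RD_iff _ _).2 (suppD_mono ?_ ((isZero_RD_iff _ _).1 hB))
  rw [Scheme.Opens.range_ι, Scheme.Opens.range_ι]
  rintro x hx ⟨w, hw⟩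
  refine hx ?_
  show j.base x ∈ W
  exact hw ▸ w.2

variable [CxOX.HasRgammaZ W.ι] [CxOX.HasRgammaZ (j ⁻¹ᵁ W).ι]

/-- the comparison `RΓ_{Z'}(E|_X) ≅ RΓ_Z(E)|_X` -/
theorem isIso_comparison (E : DCoh.D Xbar)
    (θ : (CxOX.RgammaZ (j ⁻¹ᵁ W).ι).obj ((RD j).obj E) ⟶ (RD j).obj ((CxOX.RgammaZ W.ι).obj E))
    (hθ : θ ≫ (RD j).map ((CxOX.RgammaZToId W.ι).app E) =
      (CxOX.RgammaZToId (j ⁻¹ᵁ W).ι).app ((RD j).obj E)) : IsIso θ := by
  obtain ⟨G, c, d, hT⟩ := exists_triangle W.ι E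
  have hA := isZero_RD_preimage j W (isZero_RD_RgammaZ W.ι E)
  have hT' := (RD j).map_distinguished _ hT
  obtain ⟨α, hα⟩ := exists_lift (j ⁻¹ᵁ W).ι hA ((RD j).map ((CxOX.RgammaZToId W.ι).app E))
  haveI : IsIso α := isIso_of_triangle (j ⁻¹ᵁ W).ι hA hT' (fun B hB f => hom_RD_rpush_eq_zero j W hB f) α hα
  have h : θ ≫ α = 𝟙 _ := lift_unique _ (isZero_RD_RgammaZ (j ⁻¹ᵁ W).ι _) _ _ (by
    rw [Category.assoc, hα, hθ, Category.id_comp]
    rfl)
  exact isIso_of_comp_hom_eq_id α h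

/-- a supported object maps the same way into `E` and into `RΓ_Z(E)` -/
theorem bijective_comp {U X : Scheme.{u}} (j : U ⟶ X) [IsOpenImmersion j] [CxOX.HasRgammaZ j] {A : DCoh.D X}
    (hA : IsZero ((RD j).obj A)) (E : DCoh.D X) :
    Function.Bijective fun f : A ⟶ (CxOX.RgammaZ j).obj E => f ≫ (CxOX.RgammaZToId j).app E :=
  ⟨fun a b h => lift_unique j hA a b h, fun f => exists_lift j hA f⟩

end Groth.Agent.DCohGammaZ
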